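import Mathlib
import Cfsg.Agent.Lib.Helper76.GOut.P1Defs

/-!
# Project GOUT (S3066), module [P1-CENT] (helper75, hedge): the centralizer of an irreducible
subgroup of `GL(V)`, `V` over `𝔽₂`, has odd order
-/

set_option autoImplicit false

namespace Cfsg.Agent.Lib.Helper75.GOut

open Cfsg.Agent.Lib.Helper76.GOut

variable {V : Type*} [AddCommGroup V] [Module (ZMod 2) V] [Finite V]

/-- the fixed space of a linear automorphism -/
def fixSpace (c : V ≃ₗ[ZMod 2] V) : Submodule (ZMod 2) V where
  carrier := {v | c v = v}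
  add_mem' := by
    intro a b ha hb
    show c (a + b) = a + b
    rw [map_add, ha, hb]
  zero_mem' := map_zero c
  smul_mem' := by
    intro r v hv
    show c (r • v) = r • v
    rw [map_smul, hv]

omit [Finite V] in
theorem mem_fixSpace (c : V ≃ₗ[ZMod 2] V) (v : V) : v ∈ fixSpace c ↔ c v = v := Iff.rfl

theorem odd_card_centralizer_of_irrSub_h75 (P : Subgroup (V ≃ₗ[ZMod 2] V)) (hP : IrrSub P) :
    Odd (Nat.card ↥(Subgroup.centralizer (P : Set (V ≃ₗ[ZMod 2] V)))) := by
  by_contra hodd
  rw [Nat.not_odd_iff_even] at hodd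
  have : Fact (Nat.Prime 2) := ⟨Nat.prime_two⟩
  obtain ⟨c, hc⟩ := exists_prime_orderOf_dvd_card'
    (G := ↥(Subgroup.centralizer (P : Set (V ≃ₗ[ZMod 2] V)))) 2 hodd.two_dvd
  set c' : V ≃ₗ[ZMod 2] V := (c : V ≃ₗ[ZMod 2] V) with hc'
  have hoc : orderOf c' = 2 := by rw [hc', Subgroup.orderOf_coe]; exact hc
  have hc2 : c' * c' = 1 := by
    have h := pow_orderOf_eq_one c'
    rw [hoc, pow_two] at h
    exact h
  have hc1 : c' ≠ 1 := by
    intro h1
    rw [h1, orderOf_one] at hoc
    omega
  have hcc : ∀ v : V, c' (c' v) = v := by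
    intro v
    have := congrArg (fun f : V ≃ₗ[ZMod 2] V => f v) hc2
    exact this
  have hcomm : ∀ x ∈ P, x * c' = c' * x := fun x hx => Subgroup.mem_centralizer_iff.1 c.2 x hx
  have hinv : ∀ x ∈ P, ∀ w ∈ fixSpace c', x w ∈ fixSpace c' := by
    intro x hx w hw
    rw [mem_fixSpace] at hw ⊢
    have h1 : c' (x w) = (c' * x) w := rfl
    rw [h1, ← hcomm x hx]
    show x (c' w) = x w
    rw [hw]
  rcases hP (fixSpace c') hinv with hbot | htop
  · obtain ⟨v, hv⟩ : ∃ v : V, c' v ≠ v := by
      by_contra hall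
      apply hc1
      apply LinearEquiv.ext
      intro v
      by_contra hv
      exact hall ⟨v, hv⟩
    have hw : c' v + v ∈ fixSpace c' := by
      rw [mem_fixSpace, map_add, hcc, add_comm]
    rw [hbot, Submodule.mem_bot] at hw
    apply hv
    have h2 : v + v = 0 := ZModModule.add_self v
    calc c' v = c' v + (v + v) := by rw [h2, add_zero]
      _ = (c' v + v) + v := by rw [add_assoc]
      _ = v := by rw [hw, zero_add]
  · apply hc1
    apply LinearEquiv.ext
    intro v
    have : v ∈ fixSpace c' := by rw [htop]; exact Submodule.mem_top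
    exact this

end Cfsg.Agent.Lib.Helper75.GOut
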