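import Mathlib
import Cfsg.Agent.Lib.Helper76.GOut.P1Defs
import Cfsg.Agent.Lib.Helper12.HuppertGL26

/-!
# Project GOUT (S3066), module [P1-SIX-AUT] (helper75): `six_mem_centralizer_of_normalizer`

`_of` form: the statement of [P1-CYC] for the given `P` enters as a hypothesis.
-/

set_option autoImplicit false

namespace Cfsg.Agent.Lib.Helper75.GOut

open Cfsg.Agent.Lib.Helper76.GOut

/-! ## counting fixed points of an automorphism of prime power order on an invariant subset -/

section Count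

variable {Q : Type*} [Group Q] [Finite Q]

theorem card_invariant_modEq (φ : MulAut Q) {r k : ℕ} [Fact r.Prime] (hφ : φ ^ r ^ k = 1)
    (S : Set Q) (hS : ∀ q ∈ S, φ q ∈ S) :
    Nat.card S ≡ Nat.card {q : Q // q ∈ S ∧ φ q = q} [MOD r] := by
  classical
  have := Fintype.ofFinite Q
  let f : Function.End S := fun s => ⟨φ s, hS s s.2⟩
  have hfn : ∀ n : ℕ, ∀ s : S, (((f ^ n) s : S) : Q) = (φ ^ n) (s : Q) := by
    intro n
    induction n with
    | zero => intro s; rfl
    | succ n ih =>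
      intro s
      rw [pow_succ, pow_succ]
      show (((f ^ n) (f s) : S) : Q) = (φ ^ n) (φ (s : Q))
      rw [ih]
  have hf : f ^ r ^ k = 1 := by
    funext s
    apply Subtype.ext
    rw [hfn, hφ]
    rfl
  have h1 := Equiv.Perm.card_fixedPoints_modEq (p := r) (n := k) hf
  have e : Function.fixedPoints f ≃ {q : Q // q ∈ S ∧ φ q = q} :=
    { toFun := fun s => ⟨(s : S), (s : S).2, congrArg Subtype.val s.2⟩
      invFun := fun q => ⟨⟨q.1, q.2.1⟩, Subtype.ext q.2.2⟩
      left_inv := fun s => rfl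
      right_inv := fun q => rfl }
  rw [Nat.card_eq_fintype_card, ← Nat.card_congr e, Nat.card_eq_fintype_card]
  exact h1

/-- no fixed points except `1`: an invariant subset containing `1` has `≡ 1` elements -/
theorem card_invariant_modEq_one (φ : MulAut Q) {r k : ℕ} [Fact r.Prime] (hφ : φ ^ r ^ k = 1)
    (hfix : ∀ q : Q, φ q = q → q = 1)
    (S : Set Q) (hS : ∀ q ∈ S, φ q ∈ S) (h1 : (1 : Q) ∈ S) :
    Nat.card S ≡ 1 [MOD r] := by
  have h := card_invariant_modEq φ hφ S hS
  have h2 : Nat.card {q : Q // q ∈ S ∧ φ q = q} = 1 := by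
    rw [Nat.card_eq_one_iff_unique]
    refine ⟨⟨fun a b => Subtype.ext ?_⟩, ⟨⟨1, h1, map_one φ⟩⟩⟩
    rw [hfix a.1 a.2.2, hfix b.1 b.2.2]
  rwa [h2] at h

/-- the fixed points of an automorphism -/
def fixSub (φ : MulAut Q) : Subgroup Q where
  carrier := {q | φ q = q}
  one_mem' := map_one φ
  mul_mem' := by
    intro a b ha hb
    show φ (a * b) = a * b
    rw [map_mul, ha, hb]
  inv_mem' := by
    intro a ha
    show φ a⁻¹ = a⁻¹
    rw [map_inv, ha]

omit [Finite Q] in
theorem mem_fixSub (φ : MulAut Q) (q : Q) : q ∈ fixSub φ ↔ φ q = q := Iff.rfl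

theorem card_modEq_fixSub (φ : MulAut Q) {r k : ℕ} [Fact r.Prime] (hφ : φ ^ r ^ k = 1) :
    Nat.card Q ≡ Nat.card (fixSub φ) [MOD r] := by
  have h := card_invariant_modEq φ hφ Set.univ (fun _ _ => Set.mem_univ _)
  have e1 : Nat.card (Set.univ : Set Q) = Nat.card Q := Nat.card_congr (Equiv.Set.univ Q)
  have e2 : Nat.card {q : Q // q ∈ (Set.univ : Set Q) ∧ φ q = q} = Nat.card (fixSub φ) :=
    Nat.card_congr
      { toFun := fun q => ⟨q.1, q.2.2⟩
        invFun := fun q => ⟨q.1, Set.mem_univ _, q.2⟩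
        left_inv := fun q => rfl
        right_inv := fun q => rfl }
  rwa [e1, e2] at h

end Count

/-! ## arithmetic -/

theorem prime_dvd_three_pow_sub_one {r i : ℕ} (hr : r.Prime) (hr5 : 5 ≤ r) (hi1 : 1 ≤ i) (hi4 : i ≤ 4)
    (h : r ∣ 3 ^ i - 1) : r = 13 ∨ (r = 5 ∧ i = 4) := by
  interval_cases i
  · have : r ≤ 2 := Nat.le_of_dvd (by norm_num) h
    omega
  · have hle : r ≤ 8 := Nat.le_of_dvd (by norm_num) h
    interval_cases r <;> first | omega | (exfalso; revert hr; norm_num; done)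
  · have hle : r ≤ 26 := Nat.le_of_dvd (by norm_num) h
    interval_cases r <;> first | omega | (exfalso; revert hr; norm_num; done)
  · have hle : r ≤ 80 := Nat.le_of_dvd (by norm_num) h
    interval_cases r <;> first | omega | (exfalso; revert hr; norm_num; done)

/-! ## the module -/

section Lin

variable {V : Type*} [AddCommGroup V] [Module (ZMod 2) V] [Finite V]

theorem card_GL6_dvd (hn : Module.finrank (ZMod 2) V = 6) :
    Nat.card (V ≃ₗ[ZMod 2] V) ∣ 20158709760 := by
  have : Fact (Nat.Prime 2) := ⟨Nat.prime_two⟩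
  exact Cfsg.Agent.Lib.Helper12.Huppert.card_dvd_26 (q := 2) (V := V)
    (MonoidHom.id (V ≃ₗ[ZMod 2] V)) (fun _ _ h => h) rfl hn

/-- **[P1-SIX-AUT]**, `_of` form (hypothesis `hcyc` = [P1-CYC] for `P`). -/
theorem six_mem_centralizer_of_normalizer_of (hn : Module.finrank (ZMod 2) V = 6)
    (P : Subgroup (V ≃ₗ[ZMod 2] V)) (hP : IsPGroup 3 P)
    (hcyc : (∀ a ∈ P, ∀ b ∈ P, a * b = b * a) → IsCyclic ↥P)
    (r : ℕ) (hr : r.Prime) (hr5 : 5 ≤ r) (x : V ≃ₗ[ZMod 2] V)
    (hx : x ∈ Subgroup.normalizer (P : Set (V ≃ₗ[ZMod 2] V))) (k : ℕ) (hxr : x ^ r ^ k = 1) :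
    x ∈ Subgroup.centralizer (P : Set (V ≃ₗ[ZMod 2] V)) := by
  classical
  have : Fact r.Prime := ⟨hr⟩
  have : Fact (Nat.Prime 3) := ⟨Nat.prime_three⟩
  by_contra hxc
  -- the automorphism
  set φ : MulAut ↥P := P.normalizerMonoidHom ⟨x, hx⟩ with hφ_def
  have hφ_apply : ∀ p : ↥P, ((φ p : ↥P) : V ≃ₗ[ZMod 2] V) = x * (p : V ≃ₗ[ZMod 2] V) * x⁻¹ :=
    fun p => rfl
  have hφ : φ ^ r ^ k = 1 := by
    rw [hφ_def, ← map_pow]
    have : (⟨x, hx⟩ : ↥(Subgroup.normalizer (P : Set (V ≃ₗ[ZMod 2] V)))) ^ r ^ k = 1 := by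
      apply Subtype.ext
      rw [Subgroup.coe_pow]
      exact hxr
    rw [this, map_one]
  -- a moved element
  obtain ⟨p0, hp0⟩ : ∃ p0 : ↥P, φ p0 ≠ p0 := by
    by_contra hall
    apply hxc
    rw [Subgroup.mem_centralizer_iff]
    intro p hp
    have h1 : φ ⟨p, hp⟩ = ⟨p, hp⟩ := by
      by_contra h2
      exact hall ⟨⟨p, hp⟩, h2⟩
    have h2 := congrArg Subtype.val h1
    rw [hφ_apply] at h2
    -- h2 : x * p * x⁻¹ = p
    calc p * x = x * p * x⁻¹ * x := by rw [h2]
      _ = x * p := by group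
  -- orders
  have hGL := card_GL6_dvd (V := V) hn
  obtain ⟨d, hd⟩ := IsPGroup.iff_card.1 hP
  have hd4 : d ≤ 4 := by
    by_contra hlt
    have h5 : 3 ^ 5 ∣ 3 ^ d := pow_dvd_pow 3 (by omega)
    have h6 : 3 ^ d ∣ 20158709760 := by
      rw [← hd]
      exact (Subgroup.card_subgroup_dvd_card P).trans hGL
    have := h5.trans h6
    norm_num at this
  obtain ⟨j, hj⟩ := IsPGroup.iff_card.1 (hP.to_subgroup (fixSub φ))
  have hjd : j ≤ d := by
    have h1 : Nat.card (fixSub φ) ∣ Nat.card ↥P := Subgroup.card_subgroup_dvd_card _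
    rw [hj, hd] at h1
    exact (Nat.pow_dvd_pow_iff_le_right (by norm_num)).1 h1
  have hjd' : j ≠ d := by
    intro hjd'
    have h1 : fixSub φ = ⊤ := by
      apply Subgroup.eq_top_of_card_eq
      rw [hj, hd, hjd']
    have : p0 ∈ fixSub φ := by rw [h1]; exact Subgroup.mem_top _
    exact hp0 this
  have hmod := card_modEq_fixSub φ hφ
  rw [hd, hj] at hmod
  have hdvd : r ∣ 3 ^ d - 3 ^ j :=
    (Nat.modEq_iff_dvd' (Nat.pow_le_pow_right (by norm_num) hjd)).1 hmod.symm
  have hfac : 3 ^ d - 3 ^ j = 3 ^ j * (3 ^ (d - j) - 1) := by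
    have : 3 ^ d = 3 ^ j * 3 ^ (d - j) := by rw [← pow_add]; congr 1; omega
    rw [this, Nat.mul_sub, mul_one]
  rw [hfac] at hdvd
  have hcop : Nat.Coprime r (3 ^ j) := by
    apply Nat.Coprime.pow_right
    rw [Nat.coprime_primes hr Nat.prime_three]
    omega
  have hdvd' : r ∣ 3 ^ (d - j) - 1 := hcop.dvd_of_dvd_mul_left hdvd
  rcases prime_dvd_three_pow_sub_one hr hr5 (by omega) (by omega) hdvd' with h13 | ⟨h5, hi4⟩
  · -- `r = 13`
    have hx1 : x ≠ 1 := by
      intro hx1
      apply hp0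
      apply Subtype.ext
      rw [hφ_apply, hx1, one_mul, inv_one, mul_one]
    have ho : orderOf x ∣ 13 ^ k := by
      rw [← h13]; exact orderOf_dvd_of_pow_eq_one hxr
    obtain ⟨m, _, hm⟩ := (Nat.dvd_prime_pow (by norm_num : Nat.Prime 13)).1 ho
    have hm0 : m ≠ 0 := by
      intro hm0
      rw [hm0, pow_zero, orderOf_eq_one_iff] at hm
      exact hx1 hm
    have h13dvd : 13 ∣ orderOf x := by
      rw [hm]; exact dvd_pow_self 13 hm0
    have := (h13dvd.trans (orderOf_dvd_natCard x)).trans hGL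
    norm_num at this
  · -- `r = 5`, `|P| = 81`, no fixed points
    have hd4' : d = 4 := by omega
    have hj0 : j = 0 := by omega
    subst h5
    rw [hd4'] at hd
    rw [hj0, pow_zero] at hj
    have hfix : ∀ q : ↥P, φ q = q → q = 1 := by
      intro q hq
      have hsub : Subsingleton (fixSub φ) := (Nat.card_eq_one_iff_unique.1 hj).1
      have := hsub.elim ⟨q, hq⟩ 1
      exact congrArg Subtype.val this
    -- the centre is everything
    have hcenter : Nat.card (Subgroup.center ↥P) ≡ 1 [MOD 5] := by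
      have := card_invariant_modEq_one φ hφ hfix (Subgroup.center ↥P : Set ↥P) (by
        intro q hq
        rw [SetLike.mem_coe, Subgroup.mem_center_iff] at hq ⊢
        intro g
        have hg : g = φ (φ.symm g) := (φ.apply_symm_apply g).symm
        rw [hg, ← map_mul, ← map_mul, hq]) (Subgroup.one_mem _)
      exact this
    obtain ⟨c, hc⟩ := IsPGroup.iff_card.1 (hP.to_subgroup (Subgroup.center ↥P))
    have hc4 : c ≤ 4 := by
      have h1 : Nat.card (Subgroup.center ↥P) ∣ Nat.card ↥P := Subgroup.card_subgroup_dvd_card _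
      rw [hc, hd] at h1
      exact (Nat.pow_dvd_pow_iff_le_right (by norm_num)).1 h1
    have hnt : Nontrivial ↥P := by
      rw [← Finite.one_lt_card_iff_nontrivial, hd]
      norm_num
    have hc1 : c ≠ 0 := by
      intro hc0
      rw [hc0, pow_zero] at hc
      have hsub : Subsingleton (Subgroup.center ↥P) := (Nat.card_eq_one_iff_unique.1 hc).1
      have hnt' : Nontrivial (Subgroup.center ↥P) := hP.center_nontrivial
      exact not_subsingleton _ hsub
    have hc4' : c = 4 := by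
      rw [hc] at hcenter
      have : c = 1 ∨ c = 2 ∨ c = 3 ∨ c = 4 := by omega
      rcases this with h | h | h | h
      · rw [h] at hcenter; exact absurd hcenter (by decide)
      · rw [h] at hcenter; exact absurd hcenter (by decide)
      · rw [h] at hcenter; exact absurd hcenter (by decide)
      · exact h
    have hcentertop : Subgroup.center ↥P = ⊤ := by
      apply Subgroup.eq_top_of_card_eq
      rw [hc, hc4', hd]
    have hcomm : ∀ a ∈ P, ∀ b ∈ P, a * b = b * a := by
      intro a ha b hb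
      have h1 : (⟨a, ha⟩ : ↥P) ∈ Subgroup.center ↥P := by rw [hcentertop]; exact Subgroup.mem_top _
      have h2 := (Subgroup.mem_center_iff.1 h1) ⟨b, hb⟩
      exact (congrArg Subtype.val h2).symm
    have hPcyc : IsCyclic ↥P := hcyc hcomm
    -- elements of order dividing 3
    have hS := card_invariant_modEq_one φ hφ hfix {q : ↥P | q ^ 3 = 1} (by
      intro q hq
      show (φ q) ^ 3 = 1
      rw [← map_pow, hq, map_one]) (one_pow 3)
    have hle : Nat.card {q : ↥P | q ^ 3 = 1} ≤ 3 := by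
      have := Fintype.ofFinite ↥P
      have h1 := IsCyclic.card_pow_eq_one_le (α := ↥P) (n := 3) (by norm_num)
      have h2 : Nat.card {q : ↥P | q ^ 3 = 1} = (Finset.univ.filter fun a : ↥P => a ^ 3 = 1).card := by
        rw [Nat.card_eq_fintype_card]
        exact Fintype.card_subtype _
      rw [h2]
      exact h1
    have hge : 2 ≤ Nat.card {q : ↥P | q ^ 3 = 1} := by
      obtain ⟨g, hg⟩ := exists_prime_orderOf_dvd_card' (G := ↥P) 3 (by rw [hd]; norm_num)
      have hg3 : g ^ 3 = 1 := by rw [← hg]; exact pow_orderOf_eq_one g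
      have hg1 : g ≠ 1 := by
        intro h1
        rw [h1, orderOf_one] at hg
        omega
      have hfin : Finite {q : ↥P | q ^ 3 = 1} := Subtype.finite
      have : Nontrivial {q : ↥P | q ^ 3 = 1} :=
        ⟨⟨⟨g, hg3⟩, ⟨1, one_pow 3⟩, fun h => hg1 (congrArg Subtype.val h)⟩⟩
      exact Finite.one_lt_card_iff_nontrivial.2 this
    have : Nat.card {q : ↥P | q ^ 3 = 1} = 2 ∨ Nat.card {q : ↥P | q ^ 3 = 1} = 3 := by omega
    rcases this with h | h
    · rw [h] at hS; exact absurd hS (by decide)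
    · rw [h] at hS; exact absurd hS (by decide)

end Lin

end Cfsg.Agent.Lib.Helper75.GOut
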