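import Mathlib
import Cfsg.Agent.Lib.Helper76.GOut.P1Defs
import Cfsg.Agent.S0144
import Cfsg.Agent.S0205

/-!
# Project GOUT (S3066), module [P1-SIX-SOLV] (helper75): `six_isSolvable_normalizer`

`_of` form: the statements of [P1-SIX-AUT] and [P1-CENT] for the given `P` enter as hypotheses.
-/

set_option autoImplicit false

namespace Cfsg.Agent.Lib.Helper75.GOut

open Cfsg.Agent.Lib.Helper76.GOut

theorem two_three_smooth (n : ℕ) (hn : 0 < n)
    (h : ∀ p : ℕ, p.Prime → p ∣ n → p = 2 ∨ p = 3) : ∃ a b : ℕ, n = 2 ^ a * 3 ^ b := by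
  induction n using Nat.strong_induction_on with
  | _ n ih =>
    by_cases h1 : n = 1
    · exact ⟨0, 0, by rw [h1]; norm_num⟩
    · have hp := Nat.minFac_prime h1
      set q := n.minFac with hq
      obtain ⟨m, hm⟩ : q ∣ n := Nat.minFac_dvd n
      have hm0 : 0 < m := by
        rcases Nat.eq_zero_or_pos m with h0 | h0
        · rw [h0, mul_zero] at hm; omega
        · exact h0
      have hlt : m < n := by
        have h2 := hp.two_le
        have : 2 * m ≤ q * m := Nat.mul_le_mul_right m h2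
        omega
      obtain ⟨a, b, hab⟩ := ih m hlt hm0
        (fun p hp' hpm => h p hp' (hpm.trans ⟨q, by rw [hm, mul_comm]⟩))
      rcases h q hp ⟨m, hm⟩ with h2 | h3
      · exact ⟨a + 1, b, by rw [hm, h2, hab]; ring⟩
      · exact ⟨a, b + 1, by rw [hm, h3, hab]; ring⟩

section Lin

variable {V : Type*} [AddCommGroup V] [Module (ZMod 2) V] [Finite V]

/-- **[P1-SIX-SOLV]**, `_of` form (hypotheses: [P1-SIX-AUT] and [P1-CENT] for `P`). -/
theorem six_isSolvable_normalizer_of
    (P : Subgroup (V ≃ₗ[ZMod 2] V))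
    (haut : ∀ (r : ℕ), r.Prime → 5 ≤ r → ∀ x : V ≃ₗ[ZMod 2] V,
      x ∈ Subgroup.normalizer (P : Set (V ≃ₗ[ZMod 2] V)) → ∀ k : ℕ, x ^ r ^ k = 1 →
      x ∈ Subgroup.centralizer (P : Set (V ≃ₗ[ZMod 2] V)))
    (hcent : Odd (Nat.card ↥(Subgroup.centralizer (P : Set (V ≃ₗ[ZMod 2] V))))) :
    Group.IsSolvable ↥(Subgroup.normalizer (P : Set (V ≃ₗ[ZMod 2] V))) := by
  classical
  set N := Subgroup.normalizer (P : Set (V ≃ₗ[ZMod 2] V)) with hN
  set C := Subgroup.centralizer (P : Set (V ≃ₗ[ZMod 2] V)) with hC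
  let f : ↥N →* MulAut ↥P := P.normalizerMonoidHom
  have hker : f.ker = C.subgroupOf N := Subgroup.normalizerMonoidHom_ker P
  have hCN : C ≤ N := Subgroup.centralizer_le_normalizer _
  -- the kernel is solvable
  have hksolv : Group.IsSolvable ↥f.ker := by
    rw [hker]
    have e : ↥(C.subgroupOf N) ≃* ↥C := Subgroup.subgroupOfEquivOfLe hCN
    have hodd : Odd (Nat.card ↥(C.subgroupOf N)) := by
      rw [Nat.card_congr e.toEquiv]; exact hcent
    exact Cfsg.Agent.S0205.result hodd
  -- the range is a `{2,3}`-group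
  have hfinR : Finite ↥f.range := inferInstance
  have hprime : ∀ r : ℕ, r.Prime → r ∣ Nat.card ↥f.range → r = 2 ∨ r = 3 := by
    intro r hr hdvd
    by_contra hne
    have hr5 : 5 ≤ r := by
      have h2 := hr.two_le
      rcases Nat.lt_or_ge r 5 with hlt | hge
      · exfalso
        interval_cases r
        · exact hne (Or.inl rfl)
        · exact hne (Or.inr rfl)
        · exact absurd hr (by norm_num)
      · exact hge
    have : Fact r.Prime := ⟨hr⟩
    obtain ⟨ψ, hψ⟩ := exists_prime_orderOf_dvd_card' (G := ↥f.range) r hdvd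
    obtain ⟨n, hn⟩ := ψ.2
    have ho : 0 < orderOf n := orderOf_pos n
    obtain ⟨k, m, hm, hkm⟩ := Nat.exists_eq_pow_mul_and_not_dvd ho.ne' r hr.ne_one
    -- `y = n ^ m`
    have hy : ((n ^ m : ↥N) : V ≃ₗ[ZMod 2] V) ^ r ^ k = 1 := by
      rw [← Subgroup.coe_pow, ← pow_mul, mul_comm, ← hkm, pow_orderOf_eq_one]
      rfl
    have hyC := haut r hr hr5 _ (n ^ m : ↥N).2 k hy
    have hfy : f (n ^ m) = 1 := by
      have : (n ^ m : ↥N) ∈ f.ker := by
        rw [hker, Subgroup.mem_subgroupOf]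
        exact hyC
      exact this
    rw [map_pow, hn] at hfy
    have hψm : ψ ^ m = 1 := by
      apply Subtype.ext
      rw [Subgroup.coe_pow]
      exact hfy
    have := orderOf_dvd_of_pow_eq_one hψm
    rw [hψ] at this
    exact hm this
  obtain ⟨a, b, hab⟩ := two_three_smooth (Nat.card ↥f.range) Nat.card_pos hprime
  have hrsolv : Group.IsSolvable ↥f.range :=
    Cfsg.Agent.S0144.result 2 3 a b Nat.prime_two Nat.prime_three hab
  exact Group.isSolvable_of_ker_le_range f.ker.subtype f.rangeRestrict (by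
    intro x hx
    refine ⟨⟨x, ?_⟩, rfl⟩
    rw [MonoidHom.mem_ker] at hx ⊢
    have := congrArg Subtype.val hx
    exact this)

end Lin

end Cfsg.Agent.Lib.Helper75.GOut
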