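import Mathlib
import Cfsg.Agent.Lib.Helper76.GOut.P1Defs
import Cfsg.Agent.Lib.Helper75.GOut.SixAut
import Cfsg.Agent.Lib.Helper75.GOut.SixSolv
import Cfsg.Agent.Lib.Helper75.GOut.P1Cent
import Cfsg.Agent.Lib.Helper11.GOutP1Cyc

/-!
# Project GOUT (S3066), modules [P1-SIX-AUT] and [P1-SIX-SOLV] (helper75, primary owner):
the verbatim skeleton statements (`Lib/Helper76/GOut/SkelP1.lean.txt`), sorry-free

Inputs: [P1-CYC] (helper11's landed copy `Helper11.GOutP1.isCyclic_of_irrSub_of_comm`) and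
[P1-CENT] (my hedge `Helper75.GOut.odd_card_centralizer_of_irrSub_h75`).
-/

set_option autoImplicit false

namespace Cfsg.Agent.Lib.Helper76.GOut

section Lin

variable {V : Type*} [AddCommGroup V] [Module (ZMod 2) V] [Finite V]

/-- **GOUT-[P1-SIX-AUT]** (verbatim skeleton statement). An element of `r`-power order (`r ≥ 5` prime)
normalizing the irreducible `3`-group `P` centralizes it. -/
theorem six_mem_centralizer_of_normalizer (hn : Module.finrank (ZMod 2) V = 6)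
    (P : Subgroup (V ≃ₗ[ZMod 2] V)) (hP : IsPGroup 3 P) (hirr : IrrSub P)
    (r : ℕ) (hr : r.Prime) (hr5 : 5 ≤ r) (x : V ≃ₗ[ZMod 2] V)
    (hx : x ∈ Subgroup.normalizer (P : Set (V ≃ₗ[ZMod 2] V))) (k : ℕ) (hxr : x ^ r ^ k = 1) :
    x ∈ Subgroup.centralizer (P : Set (V ≃ₗ[ZMod 2] V)) :=
  Cfsg.Agent.Lib.Helper75.GOut.six_mem_centralizer_of_normalizer_of hn P hP
    (Cfsg.Agent.Lib.Helper11.GOutP1.isCyclic_of_irrSub_of_comm P hirr) r hr hr5 x hx k hxr

/-- **GOUT-[P1-SIX-SOLV]** (verbatim skeleton statement). -/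
theorem six_isSolvable_normalizer (hn : Module.finrank (ZMod 2) V = 6)
    (P : Subgroup (V ≃ₗ[ZMod 2] V)) (hP : IsPGroup 3 P) (hirr : IrrSub P) :
    Group.IsSolvable ↥(Subgroup.normalizer (P : Set (V ≃ₗ[ZMod 2] V))) :=
  Cfsg.Agent.Lib.Helper75.GOut.six_isSolvable_normalizer_of P
    (fun r hr hr5 x hx k hxr => six_mem_centralizer_of_normalizer hn P hP hirr r hr hr5 x hx k hxr)
    (Cfsg.Agent.Lib.Helper75.GOut.odd_card_centralizer_of_irrSub_h75 P hirr)

end Lin

end Cfsg.Agent.Lib.Helper76.GOut
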